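import Groth.Agent.BigSiteLib.HofPushBij
import Mathlib.CategoryTheory.Abelian.Injective.Basic

/-! pull back then counit: injectivity in degree one and two -/

universe w v u v' u'

open CategoryTheory CategoryTheory.Limits CategoryTheory.Abelian

namespace Groth.Agent.CdGm

set_option autoImplicit false
set_option maxHeartbeats 1000000
set_option backward.isDefEq.respectTransparency false
set_option backward.isDefEq.respectTransparency.types false
set_option linter.style.haveILetI false

open BigSiteLib.HofBij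

variable {A : Type u} [Category.{v} A] [Abelian A] [HasExt.{w} A] [EnoughInjectives A]
  {B : Type u'} [Category.{v'} B] [Abelian B] [HasExt.{w} B]
  {L : B ⥤ A} {R : A ⥤ B} [L.Additive] [R.Additive] [PreservesFiniteLimits L] [PreservesFiniteColimits L]
  [PreservesFiniteLimits R]
  (adj : L ⊣ R) {ZA : A} {ZB : B} (i : ZA ⟶ L.obj ZB)

theorem eq_zero_of_hof_one (hi : IsIso i) (F : A) (x : Ext.{w} ZB (R.obj F) 1) (hx : hof adj i F 1 x = 0) : x = 0 := by
  let E := ShortComplex.mk (Injective.ι F) (cokernel.π _) (cokernel.condition (Injective.ι F))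
  have hE : E.ShortExact := { exact := ShortComplex.exact_of_g_is_cokernel _ (cokernelIsCokernel _) }
  haveI : Injective E.X₂ := inferInstanceAs (Injective (Injective.under F))
  haveI : Injective (R.obj E.X₂) := Injective.injective_of_adjoint adj E.X₂
  let a := R.map E.g
  haveI : Mono E.f := hE.mono_f
  haveI : Mono (R.map E.f) := inferInstance
  have hw : R.map E.f ≫ factorThruImage a = 0 := by
    rw [← cancel_mono (Limits.image.ι a), Category.assoc, Limits.image.fac, zero_comp]
    exact (R.map_comp _ _).symm.trans ((congrArg R.map E.zero).trans (R.map_zero _ _))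
  have hker : (ShortComplex.mk (R.map E.f) (factorThruImage a) hw).ShortExact :=
    { exact := by
        have h0 : (E.map R).Exact := hE.exact.map_of_mono_of_preservesKernel R hE.mono_f inferInstance
        haveI : Mono (E.map R).f := inferInstanceAs (Mono (R.map E.f))
        refine ShortComplex.exact_of_f_is_kernel _ (KernelFork.IsLimit.ofι' _ _ fun {W} k hk => ?_)
        have hk' : k ≫ a = 0 := (congrArg (k ≫ ·) (Limits.image.fac a)).symm.trans
          ((Category.assoc _ _ _).symm.trans ((congrArg (· ≫ Limits.image.ι a) hk).trans zero_comp))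
        exact KernelFork.IsLimit.lift' h0.fIsKernel k hk' }
  obtain ⟨z, rfl⟩ := Ext.covariant_sequence_exact₁ _ hker x (Ext.eq_zero_of_injective _) (rfl : 0 + 1 = _)
  let v := hof adj i E.X₃ 0 (z.comp (Ext.mk₀ (Limits.image.ι a)) (add_zero 0))
  have hτ := ShortComplex.ShortExact.extClass_naturality (hker.map_of_exact L) hE
    ({ τ₁ := adj.counit.app E.X₁, τ₂ := adj.counit.app E.X₂, τ₃ := L.map (Limits.image.ι a) ≫ adj.counit.app E.X₃
       comm₁₂ := (adj.counit.naturality E.f).symm
       comm₂₃ := (adj.counit.naturality E.g).symm.trans (by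
        show L.map (R.map E.g) ≫ adj.counit.app E.X₃ = L.map (factorThruImage a) ≫ L.map (Limits.image.ι a) ≫ _
        rw [← L.map_comp_assoc, Limits.image.fac]) } :
      (ShortComplex.mk (R.map E.f) (factorThruImage a) hw).map L ⟶ E)
  have hv : v.comp hE.extClass (zero_add 1) = 0 := by
    refine Eq.trans ?_ hx
    simp only [v, hof, Ext.mapExactFunctor_comp, Ext.mapExactFunctor_mk₀, Ext.mapExactFunctor_extClass,
      Ext.comp_assoc_of_second_deg_zero, Ext.comp_assoc_of_third_deg_zero]
    refine Eq.symm ?_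
    erw [hτ]
    simp only [Ext.comp_assoc_of_second_deg_zero, Ext.mk₀_comp_mk₀_assoc, Ext.mk₀_comp_mk₀]
  obtain ⟨w, hw'⟩ := Ext.covariant_sequence_exact₃ _ hE v (n₁ := 1) rfl hv
  obtain ⟨w', rfl⟩ := (hof_bijective_zero adj i hi E.X₂).2 w
  have h1 : z.comp (Ext.mk₀ (Limits.image.ι a)) (add_zero 0) = w'.comp (Ext.mk₀ a) (add_zero 0) :=
    (hof_bijective_zero adj i hi E.X₃).1 (hw'.symm.trans (hof_natural adj i E.g 0 w').symm)
  obtain ⟨φ, rfl⟩ := (Ext.mk₀_bijective _ _).2 z
  obtain ⟨ψ, rfl⟩ := (Ext.mk₀_bijective _ _).2 w'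
  rw [Ext.mk₀_comp_mk₀, Ext.mk₀_comp_mk₀] at h1
  have h2 : φ = ψ ≫ factorThruImage a := (cancel_mono (Limits.image.ι a)).1
    (((Ext.mk₀_bijective _ _).1 h1).trans
      ((congrArg (ψ ≫ ·) (Limits.image.fac a)).symm.trans (Category.assoc _ _ _).symm))
  rw [h2, ← Ext.mk₀_comp_mk₀, Ext.comp_assoc_of_second_deg_zero, hker.comp_extClass, Ext.comp_zero]

theorem eq_zero_of_hof_two (hi : IsIso i) (F : A) (hepi : Epi (R.map (cokernel.π (Injective.ι F))))
    (x : Ext.{w} ZB (R.obj F) 2) (hx : hof adj i F 2 x = 0) : x = 0 := by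
  let E := ShortComplex.mk (Injective.ι F) (cokernel.π _) (cokernel.condition (Injective.ι F))
  have hE : E.ShortExact := { exact := ShortComplex.exact_of_g_is_cokernel _ (cokernelIsCokernel _) }
  haveI : Injective E.X₂ := inferInstanceAs (Injective (Injective.under F))
  haveI : Injective (E.map R).X₂ := Injective.injective_of_adjoint adj E.X₂
  have hE' : (E.map R).ShortExact :=
    { exact := hE.exact.map_of_mono_of_preservesKernel R hE.mono_f inferInstance
      mono_f := haveI : Mono E.f := hE.mono_f; inferInstanceAs (Mono (R.map E.f))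
      epi_g := hepi }
  obtain ⟨y, rfl⟩ : ∃ y : Ext.{w} ZB (R.obj E.X₃) 1, y.comp hE'.extClass rfl = x :=
    Ext.covariant_sequence_exact₁ ZB hE' x (Ext.eq_zero_of_injective _) rfl
  have hn : (hE'.extClass.mapExactFunctor L).comp (Ext.mk₀ (adj.counit.app E.X₁)) (add_zero 1) =
      (Ext.mk₀ (adj.counit.app E.X₃)).comp hE.extClass (zero_add 1) :=
    (congrArg (fun t => Ext.comp t (Ext.mk₀ (adj.counit.app E.X₁)) (add_zero 1)) (Ext.mapExactFunctor_extClass L hE')).trans
      (ShortComplex.ShortExact.extClass_naturality (hE'.map_of_exact L) hE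
        ({ τ₁ := adj.counit.app E.X₁, τ₂ := adj.counit.app E.X₂, τ₃ := adj.counit.app E.X₃
           comm₁₂ := (adj.counit.naturality E.f).symm, comm₂₃ := (adj.counit.naturality E.g).symm } :
          (E.map R).map L ⟶ E))
  have hy : (hof adj i E.X₃ 1 y).comp hE.extClass rfl = 0 := (hof_comp adj i 1 y hE'.extClass hE.extClass hn).symm.trans hx
  obtain ⟨z, hz⟩ := Ext.covariant_sequence_exact₃ ZA hE (hof adj i E.X₃ 1 y) (n₁ := 2) rfl hy
  rw [Ext.eq_zero_of_injective z, Ext.zero_comp] at hz
  rw [eq_zero_of_hof_one adj i hi E.X₃ y hz.symm, Ext.zero_comp]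

end Groth.Agent.CdGm
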