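import Groth.Agent.FieldCd.Acyclic
import Groth.Agent.CurveCd.Devissage
import Groth.Agent.CdGm.HofInj
import Groth.Agent.AlgSpLib.EtLocalInst
import Groth.Agent.S8531
import Groth.Prelude.Def_EtLim

/-! the multiplicative group of a scheme with one point -/

universe u

open CategoryTheory CategoryTheory.Limits AlgebraicGeometry Opposite

namespace Groth.Agent.CdGm

set_option autoImplicit false
set_option maxHeartbeats 1000000
set_option synthInstance.maxHeartbeats 400000
set_option backward.isDefEq.respectTransparency false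
set_option backward.isDefEq.respectTransparency.types false
set_option linter.style.haveILetI false

open EtFound EtLC12.AffineLocalAcyclic Adeq2Lib

theorem isOpen_singleton_etale {S : Scheme.{u}} [Subsingleton S] (U : S.Etale) (x : U.left) :
    IsOpen ({x} : Set U.left) := by
  let f : U.left ⟶ S := U.hom
  haveI : AlgebraicGeometry.Etale f := U.prop
  have h := f.isDiscrete_preimage_singleton (f.base x)
  have he : (f.base ⁻¹' {f.base x}) = Set.univ := Set.eq_univ_of_forall fun z => Subsingleton.elim (α := S) _ _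
  rw [he] at h
  haveI : DiscreteTopology ↥(Set.univ : Set U.left) := h.to_subtype
  haveI : DiscreteTopology U.left := (Homeomorph.Set.univ U.left).discreteTopology
  exact isOpen_discrete _

theorem subsingleton_H1_Gm_onePoint (T : Scheme.{u}) [Subsingleton T] :
    Subsingleton (EtCoh.H T (EtCoh.Gm T) 1) := by
  refine subsingleton_of_forall_eq 0 fun c => ?_
  rcases isEmpty_or_nonempty T with hT | ⟨⟨t⟩⟩
  · exact @Subsingleton.elim _ (CurveCd.subsingleton_H_of_supp (fun y _ => hT.elim y) 1) _ _
  obtain ⟨U, hU, hc⟩ := Groth.Agent.S8531.result T c t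
  haveI : Surjective U.ι := ⟨fun y => ⟨⟨y, (Subsingleton.elim t y) ▸ hU⟩, rfl⟩⟩
  haveI : Epi U.ι.base := (TopCat.epi_iff_surjective _).2 U.ι.surjective
  haveI : IsIso U.ι := IsOpenImmersion.isIso U.ι
  haveI := EtContLib.pfl U.ι
  exact (Groth.Agent.S0642.result U.ι _ 1).1 (hc.trans (map_zero _).symm)

theorem subsingleton_H1_pull_Gm {S : Scheme.{u}} (T : S.Etale) [Subsingleton T.left] :
    Subsingleton (EtCoh.H T.left ((EtCoh.pull T.hom).obj (EtCoh.Gm S)) 1) := by
  haveI : AlgebraicGeometry.Etale T.hom := T.prop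
  obtain ⟨ι⟩ := FieldCd.nonempty_pull_Gm_iso (T.hom : T.left ⟶ S)
  exact FieldCd.subsingleton_H_of_iso ι.symm 1 (subsingleton_H1_Gm_onePoint T.left)

variable {S : Scheme.{u}} [Subsingleton S]

theorem sections_surjective (E : ShortComplex (EtCoh.Ab S)) (hE : E.ShortExact) (hI : Injective E.X₂)
    (h1 : ∀ T : S.Etale, Subsingleton T.left → Subsingleton (EtCoh.H T.left ((EtCoh.pull T.hom).obj E.X₁) 1))
    (U : S.Etale) : Function.Surjective (E.g.hom.app (op U)).hom := by
  intro s
  let O : U.left → U.left.Opens := fun x => ⟨{x}, isOpen_singleton_etale U x⟩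
  let V : U.left → S.Etale := fun x => EtTorLib.openObj U (O x)
  let g : ∀ x, V x ⟶ U := fun x => EtTorLib.openHom U (O x)
  have hsub : ∀ x, Subsingleton (V x).left := fun x => ⟨fun a b => Subtype.ext
    ((Set.mem_singleton_iff.1 a.2).trans (Set.mem_singleton_iff.1 b.2).symm)⟩
  choose t ht using fun x => EtTorLib.sections_surjective_of_H1 E hE hI (V x) (h1 _ (hsub x))
    (E.X₃.obj.map (g x).op s)
  have hsh : ∀ F : EtCoh.Ab S, Presieve.IsSheafFor (F.obj ⋙ forget AddCommGrpCat.{u + 1})
      (Presieve.ofArrows V g) := fun F => by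
    have hc : Sieve.generate (Presieve.ofArrows V g) ∈ S.smallEtaleTopology U :=
      (EtFound.mem_topology_iff _).2 fun p =>
        ⟨V p, g p, (⟨p, rfl⟩ : (O p : Scheme.{u})), Sieve.le_generate _ _ _ (Presieve.ofArrows.mk p), rfl⟩
    exact (Presieve.isSheafFor_iff_generate _).2 (((isSheaf_iff_isSheaf_of_type _ _).1
      ((sheafCompose _ (forget AddCommGrpCat.{u + 1})).obj F).property) _ hc)
  have hcompat : Presieve.Arrows.Compatible (E.X₂.obj ⋙ forget AddCommGrpCat.{u + 1}) g t := by
    intro a b Z p q hpq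
    show E.X₂.obj.map p.op (t a) = E.X₂.obj.map q.op (t b)
    by_cases hab : a = b
    · subst hab
      have : p = q := MorphismProperty.Over.Hom.ext ((cancel_mono (O a).ι).1 (congrArg (fun r => r.left) hpq))
      rw [this]
    · refine sub_eq_zero.1 (EtTorLib.eq_zero_of_locally _ fun z => absurd ?_ hab)
      have h := congrArg (fun r : Z.left ⟶ U.left => r.base z) (congrArg (fun r => r.left) hpq)
      exact (Set.mem_singleton_iff.1 (p.left.base z).2).symm.trans
        (h.trans (Set.mem_singleton_iff.1 (q.left.base z).2))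
  obtain ⟨y, hy, -⟩ := (Presieve.isSheafFor_arrows_iff _ _).1 (hsh E.X₂) t hcompat
  refine ⟨y, (hsh E.X₃).isSeparatedFor.ext fun Z v hv => ?_⟩
  obtain ⟨x⟩ := hv
  show E.X₃.obj.map (g x).op (E.g.hom.app (op U) y) = E.X₃.obj.map (g x).op s
  rw [← NatTrans.naturality_apply E.g.hom (g x).op y, show E.X₂.obj.map (g x).op y = t x from hy x]
  exact ht x

/-- degree two classes of the direct image of the multiplicative group are seen on the source -/
theorem HofPush_Gm_two_injective {Y : Scheme.{u}} (f : S ⟶ Y) [PreservesFiniteLimits (EtCoh.pull f)] :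
    Function.Injective (EtLim.HofPush f (EtCoh.Gm S) 2) := by
  haveI : (EtCoh.pull f).IsLeftAdjoint := (EtCoh.pullPushAdj f).isLeftAdjoint
  haveI : (EtCoh.push f).IsRightAdjoint := (EtCoh.pullPushAdj f).isRightAdjoint
  haveI : (EtCoh.pull f).Additive := (EtCoh.pullPushAdj f).left_adjoint_additive
  haveI : PreservesFiniteLimits (EtCoh.push f) :=
    haveI := (EtCoh.pullPushAdj f).rightAdjoint_preservesLimits
    PreservesLimitsOfSize.preservesFiniteLimits.{0, 0} _
  let E := ShortComplex.mk (Injective.ι (EtCoh.Gm S)) (cokernel.π _) (cokernel.condition (Injective.ι (EtCoh.Gm S)))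
  have hE : E.ShortExact := { exact := ShortComplex.exact_of_g_is_cokernel _ (cokernelIsCokernel _) }
  have hepi : Epi ((EtCoh.push f).map E.g) := EtTorLib.epi_of_locally' _ fun U s x => ⟨U, 𝟙 U, x, by
    obtain ⟨t, ht⟩ := sections_surjective E hE (inferInstanceAs (Injective (Injective.under (EtCoh.Gm S))))
      (fun T hT => haveI := hT; subsingleton_H1_pull_Gm T) ((EtCoh.bc f).obj U) s
    exact ⟨t, ht.trans (by rw [op_id, CategoryTheory.Functor.map_id]; rfl), rfl⟩⟩
  exact (injective_iff_map_eq_zero _).2 fun x hx =>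
    eq_zero_of_hof_two (EtCoh.pullPushAdj f) (EtCore.pullConst f ℤ).inv inferInstance _ hepi x hx

end Groth.Agent.CdGm

namespace Groth.Agent.CdGm

/-- degree one classes of the direct image of the multiplicative group vanish -/
theorem subsingleton_H1_push_Gm {S Y : Scheme.{u}} [Subsingleton S] (f : S ⟶ Y)
    [PreservesFiniteLimits (EtCoh.pull f)] :
    Subsingleton (EtCoh.H Y ((EtCoh.push f).obj (EtCoh.Gm S)) 1) := by
  haveI : (EtCoh.pull f).IsLeftAdjoint := (EtCoh.pullPushAdj f).isLeftAdjoint
  haveI : (EtCoh.push f).IsRightAdjoint := (EtCoh.pullPushAdj f).isRightAdjoint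
  haveI : (EtCoh.pull f).Additive := (EtCoh.pullPushAdj f).left_adjoint_additive
  haveI : PreservesFiniteLimits (EtCoh.push f) :=
    haveI := (EtCoh.pullPushAdj f).rightAdjoint_preservesLimits
    PreservesLimitsOfSize.preservesFiniteLimits.{0, 0} _
  exact subsingleton_of_forall_eq 0 fun x =>
    eq_zero_of_hof_one (EtCoh.pullPushAdj f) (EtCore.pullConst f ℤ).inv inferInstance _ x
      (@Subsingleton.elim _ (subsingleton_H1_Gm_onePoint S) _ _)

end Groth.Agent.CdGm
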