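import Groth.Agent.CdGm.Inject
import Groth.Agent.CdDim.Dim

/-! reduced curves over algebraically closed fields -/

universe u

open CategoryTheory CategoryTheory.Limits AlgebraicGeometry Opposite

namespace Groth.Agent.CdGm

set_option autoImplicit false
set_option maxHeartbeats 1000000
set_option synthInstance.maxHeartbeats 400000
set_option backward.isDefEq.respectTransparency false
set_option backward.isDefEq.respectTransparency.types false
set_option linter.style.haveILetI false

variable {k : Type u} [Field k] [IsAlgClosed k] {X : Scheme.{u}}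

theorem subsingleton_H2_Gm_residueField (f : X ⟶ Spec (CommRingCat.of k)) [LocallyOfFiniteType f]
    (hdim : topologicalKrullDim X ≤ 1) (x : X) :
    Subsingleton (EtCoh.H (Spec (X.residueField x)) (EtCoh.Gm (Spec (X.residueField x))) 2) := by
  let K : Type u := X.residueField x
  by_cases hx : IsClosed ({x} : Set X)
  · haveI : IsSepClosed K := CurveCd.isSepClosed_residueField f x hx
    haveI : IsSepClosed (IsLocalRing.ResidueField K) := AlgSpDec.EtStalkProps.isSepClosed_of_ringEquiv'
      (RingEquiv.ofBijective (IsLocalRing.residue K) ⟨(IsLocalRing.residue K).injective, IsLocalRing.residue_surjective⟩)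
    haveI : HenselianLocalRing K := inferInstance
    exact Groth.Agent.S0073.result K (EtCoh.Gm (Spec (CommRingCat.of K))) 2 (by norm_num)
  · have hdeg : VarDim.deg f x = 1 := by
      have h0 : VarDim.deg f x ≠ 0 := fun h => hx ((VarDim.closedPoint_iff_deg_eq_zero f x).2 h)
      have := CurveCd.height_le_of_dim (d := 1) (by exact_mod_cast hdim) x
      rw [VarDim.height_eq_deg f] at this
      have : VarDim.deg f x ≤ 1 := by exact_mod_cast this
      omega
    have hCi : Curves.IsCi K 1 := by
      letI : Algebra k K := (VarDim.resHom f x).toAlgebra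
      refine TsenLib.tsen_lang (k := k) ?_
      rw [← hdeg]
      exact (VarDim.deg_eq_tdeg f x).symm
    exact FieldCd.subsingleton_H_Gm_of_brauer (K := K) (fun K' _ _ _ D _ _ _ _ =>
      TsenLib.finrank_eq_one_of_isCr_one (TsenLib.isCr_one_of_isCi (Groth.Agent.S0210.result K K' 1 hCi))) 2
      (by norm_num)

theorem subsingleton_H2_Gm_curve (f : X ⟶ Spec (CommRingCat.of k)) [LocallyOfFiniteType f] [QuasiCompact f]
    [IsReduced X] (hdim : topologicalKrullDim X ≤ 1) : Subsingleton (EtCoh.H X (EtCoh.Gm X) 2) := by
  haveI : IsLocallyNoetherian X := LocallyOfFiniteType.isLocallyNoetherian f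
  haveI : CompactSpace X := QuasiCompact.compactSpace_of_compactSpace f
  haveI : IsNoetherian X := { }
  haveI : ∀ {A B : Scheme.{u}} (g : A ⟶ B), PreservesFiniteLimits (EtCoh.pull g) := fun g => EtContLib.pfl g
  refine subsingleton_of_forall_eq 0 fun ξ =>
    H2_Gm_eq_zero_of_maxPts hdim (fun x hx _ => CurveCd.isSepClosed_residueField f x hx) ξ fun x hx => ?_
  haveI : Subsingleton (Spec (X.presheaf.stalk x)) := ⟨fun s t =>
    (X.fromSpecStalk x).isEmbedding.injective
      ((range_fromSpecStalk_of_maxPts hx s).trans (range_fromSpecStalk_of_maxPts hx t).symm)⟩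
  let O : Type u := X.presheaf.stalk x
  have hinj : Function.Injective (X.residue x).hom := by
    refine (injective_iff_map_eq_zero _).2 fun a ha => ?_
    have hm : a ∈ IsLocalRing.maximalIdeal O := (IsLocalRing.residue_eq_zero_iff a).1 ha
    have hnil : a ∈ nilradical O := by
      rw [nilradical_eq_sInf, Submodule.mem_sInf]
      intro J hJ
      have he : (⟨J, hJ⟩ : PrimeSpectrum O) = IsLocalRing.closedPoint O := Subsingleton.elim (α := Spec (X.presheaf.stalk x)) _ _
      rw [show J = IsLocalRing.maximalIdeal O from congrArg PrimeSpectrum.asIdeal he]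
      exact hm
    rw [nilradical_eq_zero] at hnil
    simpa using hnil
  haveI : IsIso (X.residue x) :=
    (ConcreteCategory.isIso_iff_bijective (X.residue x)).2 ⟨hinj, X.residue_surjective x⟩
  let i : Spec (X.residueField x) ⟶ Spec (X.presheaf.stalk x) := Spec.map (X.residue x)
  haveI : IsIso i := inferInstance
  obtain ⟨ι⟩ := FieldCd.nonempty_pull_Gm_iso i
  haveI : Subsingleton (EtCoh.H (Spec (X.residueField x)) ((EtCoh.pull i).obj (EtCoh.Gm (Spec (X.presheaf.stalk x)))) 2) :=
    FieldCd.subsingleton_H_of_iso ι.symm 2 (subsingleton_H2_Gm_residueField f hdim x)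
  haveI := (Groth.Agent.S0642.result i (EtCoh.Gm (Spec (X.presheaf.stalk x))) 2).1.subsingleton
  exact Subsingleton.elim _ _

end Groth.Agent.CdGm
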