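import Groth.Agent.CdGm.Seq
import Groth.Agent.CdGm.Artin
import Groth.Agent.CurveCd.Main

/-! degree two classes of the multiplicative group on one dimensional schemes -/

universe u

open CategoryTheory CategoryTheory.Limits AlgebraicGeometry Opposite TopologicalSpace CategoryTheory.Abelian

namespace Groth.Agent.CdGm

set_option autoImplicit false
set_option maxHeartbeats 1000000
set_option synthInstance.maxHeartbeats 400000
set_option backward.isDefEq.respectTransparency false
set_option backward.isDefEq.respectTransparency.types false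
set_option linter.style.haveILetI false

variable {X : Scheme.{u}}

/-- in dimension one the points which are not maximal are closed -/
theorem isClosed_of_notMem_maxPts (hdim : topologicalKrullDim X ≤ 1) {x : X} (hx : x ∉ maxPts X) :
    IsClosed ({x} : Set X) := by
  refine isClosed_of_closure_subset fun z hz => ?_
  by_contra hne
  obtain ⟨y, hy, hyx⟩ : ∃ y : X, y ⤳ x ∧ y ≠ x := by
    by_contra h
    exact hx fun y hy => of_not_not fun hn => h ⟨y, hy, hn⟩
  have h1 : x < y := lt_iff_le_not_ge.2 ⟨(hy : x ≤ y), fun h => hyx (Specializes.antisymm hy (h : x ⤳ y)).eq⟩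
  have hzx : x ⤳ z := specializes_iff_mem_closure.2 hz
  have h2 : z < x := lt_iff_le_not_ge.2 ⟨(hzx : z ≤ x), fun h => hne
    (Set.mem_singleton_iff.2 (Specializes.antisymm (h : z ⤳ x) hzx).eq)⟩
  have h3 := CurveCd.height_le_of_dim (d := 1) (by exact_mod_cast hdim) y
  have h4 : Order.height z + 1 ≤ Order.height x := Order.height_add_one_le h2
  have h5 : Order.height x + 1 ≤ Order.height y := Order.height_add_one_le h1
  have h6 : (0 : ℕ∞) + 1 + 1 ≤ Order.height y :=
    le_trans (add_le_add ((add_le_add zero_le' le_rfl).trans h4) le_rfl) h5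
  exact absurd (h6.trans h3) (by norm_num)

/-- classes in degree two are detected at the maximal points -/
theorem H2_Gm_eq_zero_of_maxPts [IsNoetherian X] (hdim : topologicalKrullDim X ≤ 1)
    (hsep : ∀ x : X, IsClosed ({x} : Set X) → x ∉ maxPts X → IsSepClosed (X.residueField x))
    [∀ x : X, PreservesFiniteLimits (EtCoh.pull (X.fromSpecStalk x))] (ξ : EtCoh.H X (EtCoh.Gm X) 2)
    (hξ : ∀ x ∈ maxPts X, EtLim.HGmPull (X.fromSpecStalk x) 2 ξ = 0) : ξ = 0 := by
  let a := toMax X
  have hK : ∀ x ∈ EtPBC.supp (kernel a), IsClosed ({x} : Set X) ∧ IsSepClosed (X.residueField x) := fun x hx =>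
    have hm := supp_kernel_toMax hx
    have hc := isClosed_of_notMem_maxPts hdim hm
    ⟨hc, hsep x hc hm⟩
  have hC : ∀ x ∈ EtPBC.supp (cokernel a), IsClosed ({x} : Set X) ∧ IsSepClosed (X.residueField x) := fun x hx =>
    have hm := supp_cokernel_toMax hx
    have hc := isClosed_of_notMem_maxPts hdim hm
    ⟨hc, hsep x hc hm⟩
  have h1 : (ShortComplex.mk (kernel.ι a) (factorThruImage a) (by
      rw [← cancel_mono (Limits.image.ι a), Category.assoc, Limits.image.fac, kernel.condition, zero_comp])).ShortExact :=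
    { exact := ShortComplex.exact_of_f_is_kernel _ (KernelFork.IsLimit.ofι' _ _ fun {W} k hk =>
        ⟨kernel.lift a k (by rw [← Limits.image.fac a, reassoc_of% hk, zero_comp]), kernel.lift_ι _ _ _⟩) }
  have h2 : (ShortComplex.mk (Limits.image.ι a) (cokernel.π a) (by
      rw [← cancel_epi (factorThruImage a), Limits.image.fac_assoc, cokernel.condition, comp_zero])).ShortExact :=
    { exact := ShortComplex.exact_of_g_is_cokernel _ (CokernelCofork.IsColimit.ofπ' _ _ fun {W} k hk =>
        ⟨cokernel.desc a k (by rw [← Limits.image.fac a, Category.assoc, hk, comp_zero]), cokernel.π_desc _ _ _⟩) }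
  -- the image in the sum is zero
  have hcomp : ∀ x : ↥(maxPts X),
      (ξ.comp (Ext.mk₀ a) (add_zero 2)).comp (Ext.mk₀ (biproduct.π (comp' X) x)) (add_zero 2) = 0 := fun x => by
    rw [Ext.comp_assoc_of_third_deg_zero, Ext.mk₀_comp_mk₀, toMax_π]
    haveI : Subsingleton (Spec (X.presheaf.stalk x.1)) := ⟨fun s t =>
      (X.fromSpecStalk x.1).isEmbedding.injective
        ((range_fromSpecStalk_of_maxPts x.2 s).trans (range_fromSpecStalk_of_maxPts x.2 t).symm)⟩
    exact HofPush_Gm_two_injective (X.fromSpecStalk x.1) ((hξ x.1 x.2).trans (map_zero _).symm)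
  have ha : ξ.comp (Ext.mk₀ a) (add_zero 2) = 0 := by
    letI := Fintype.ofFinite ↥(maxPts X)
    have h0 : (∑ x : ↥(maxPts X), biproduct.π (comp' X) x ≫ biproduct.ι (comp' X) x) = 𝟙 (sumGm X) :=
      IsBilimit.total (biproduct.isBilimit (comp' X))
    have key : ∀ (T : Finset ↥(maxPts X)), (ξ.comp (Ext.mk₀ a) (add_zero 2)).comp
        (Ext.mk₀ (∑ x ∈ T, biproduct.π (comp' X) x ≫ biproduct.ι (comp' X) x)) (add_zero 2) = 0 := fun T => by
      classical
      induction T using Finset.induction_on with
      | empty => simp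
      | @insert x T hxT ih =>
        rw [Finset.sum_insert hxT, Ext.mk₀_add, Ext.comp_add, ih, add_zero, ← Ext.mk₀_comp_mk₀,
          ← Ext.comp_assoc_of_third_deg_zero, hcomp x, Ext.zero_comp]
    have h := key Finset.univ
    rwa [h0, Ext.comp_mk₀_id] at h
  -- hence zero
  have h3 : ξ.comp (Ext.mk₀ (factorThruImage a)) (add_zero 2) = 0 := by
    have h4 : (ξ.comp (Ext.mk₀ (factorThruImage a)) (add_zero 2)).comp (Ext.mk₀ (Limits.image.ι a)) (add_zero 2) = 0 := by
      rw [Ext.comp_assoc_of_third_deg_zero, Ext.mk₀_comp_mk₀, Limits.image.fac]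
      exact ha
    obtain ⟨z, hz⟩ := Ext.covariant_sequence_exact₁ _ h2 _ h4 (rfl : 1 + 1 = 2)
    rw [← hz, @Subsingleton.elim _ (CurveCd.subsingleton_H_of_supp_closedPoints (cokernel a) hC 1 one_pos) z 0,
      Ext.zero_comp]
  obtain ⟨z, rfl⟩ := Ext.covariant_sequence_exact₂ _ h1 ξ h3
  rw [@Subsingleton.elim _ (CurveCd.subsingleton_H_of_supp_closedPoints (kernel a) hK 2 two_pos) z 0, Ext.zero_comp]

end Groth.Agent.CdGm
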