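import Groth.Agent.CurveCd.SuppSub
import Groth.Agent.EtTorLib.Sections
import Groth.Agent.EtFound.NoethCard
import Groth.Agent.AlgSpLib.EtLocalInst
import Groth.Prelude.Def_EtLim

/-! units near the maximal points -/

universe u

open CategoryTheory CategoryTheory.Limits AlgebraicGeometry Opposite TopologicalSpace

namespace Groth.Agent.CdGm

set_option autoImplicit false
set_option maxHeartbeats 1000000
set_option synthInstance.maxHeartbeats 400000
set_option backward.isDefEq.respectTransparency false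
set_option backward.isDefEq.respectTransparency.types false
set_option linter.style.haveILetI false

variable {X : Scheme.{u}}

/-- the maximal points -/
def maxPts (X : Scheme.{u}) : Set X := {x | ∀ y : X, y ⤳ x → y = x}

theorem maxPts_eq_genericPoints : maxPts X = genericPoints (X : Type u) := by
  ext x
  refine ⟨fun hx => ?_, fun hx y hy => ?_⟩
  · let K := irreducibleComponent x
    have hg := isIrreducible_irreducibleComponent.isGenericPoint_genericPoint (isClosed_irreducibleComponent (x := x))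
    rw [← hx _ (hg.specializes mem_irreducibleComponent)]
    show closure {_} ∈ irreducibleComponents (X : Type u)
    rw [hg.def]
    exact irreducibleComponent_mem_irreducibleComponents x
  · have h : closure {x} ⊆ closure {y} :=
      closure_minimal (Set.singleton_subset_iff.2 (specializes_iff_mem_closure.1 hy)) isClosed_closure
    have he : closure {y} = closure {x} :=
      (show closure {x} ∈ irreducibleComponents (X : Type u) from hx).eq_of_ge isIrreducible_singleton.closure h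
    exact IsGenericPoint.eq (show IsGenericPoint y (closure {x}) from he) (show IsGenericPoint x (closure {x}) from rfl)

theorem finite_maxPts [IsNoetherian X] : (maxPts X).Finite := by
  rw [maxPts_eq_genericPoints]
  exact genericPoints.finite NoetherianSpace.finite_irreducibleComponents

theorem range_fromSpecStalk_of_maxPts {x : X} (hx : x ∈ maxPts X) (z : Spec (X.presheaf.stalk x)) :
    (X.fromSpecStalk x).base z = x := by
  have h : (X.fromSpecStalk x).base z ∈ Set.range (X.fromSpecStalk x).base := ⟨z, rfl⟩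
  rw [Scheme.range_fromSpecStalk] at h
  exact hx _ h

/-- a neighbourhood meeting the fibres over the maximal points only once -/
theorem exists_nhd [IsNoetherian X] (U : X.Etale) (p : U.left) (hp : U.hom.base p ∈ maxPts X) :
    ∃ W : U.left.Opens, p ∈ W ∧ ∀ v ∈ W, U.hom.base v ∈ maxPts X → v = p := by
  haveI : AlgebraicGeometry.Etale U.hom := U.prop
  obtain ⟨A, hA, hpA, -⟩ := exists_isAffineOpen_mem_and_subset (U := (⊤ : U.left.Opens)) (x := p) trivial
  haveI : IsAffine A.toScheme := hA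
  let f : A.toScheme ⟶ X := A.ι ≫ U.hom
  haveI : AlgebraicGeometry.Etale f := inferInstanceAs (AlgebraicGeometry.Etale (A.ι ≫ (U.hom : U.left ⟶ X)))
  haveI : QuasiCompact f :=
    haveI : QuasiCompact (f ≫ terminal.from X) := inferInstance
    QuasiCompact.of_comp f (terminal.from X)
  let B : Set U.left := (A.ι.base '' (⋃ x ∈ maxPts X, f.base ⁻¹' {x})) \ {p}
  have hB : B.Finite :=
    ((finite_maxPts.biUnion fun x _ => f.finite_preimage_singleton x).image _).sdiff
  have hC : IsClosed (⋃ q ∈ B, closure {q}) := hB.isClosed_biUnion fun q _ => isClosed_closure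
  refine ⟨A ⊓ ⟨(⋃ q ∈ B, closure {q})ᶜ, hC.isOpen_compl⟩, ⟨hpA, fun h => ?_⟩, fun v ⟨hvA, hv⟩ hm => ?_⟩
  · obtain ⟨q, ⟨⟨a, -, rfl⟩, hne⟩, hq⟩ := Set.mem_iUnion₂.1 h
    have hsp : A.ι.base a ⤳ p := specializes_iff_mem_closure.2 hq
    exact hne (EtFound.eq_of_specializes U hsp (hp _ (hsp.map U.hom.continuous)))
  · by_contra hne
    refine hv (Set.mem_iUnion₂.2 ⟨v, ⟨⟨⟨v, hvA⟩, ?_, rfl⟩, hne⟩, subset_closure rfl⟩)
    exact Set.mem_iUnion₂.2 ⟨_, hm, Scheme.Hom.comp_apply A.ι U.hom _⟩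

/-- a function on an etale scheme which is one on the base change to the local ring is one near the point -/
theorem eq_one_near {U : X.Etale} (p : U.left) (x : X) (hpx : U.hom.base p = x) (s : Γ(U.left, ⊤))
    (hs : (pullback.fst U.hom (X.fromSpecStalk x)).appTop s = 1) :
    ∃ W : U.left.Opens, p ∈ W ∧ W.ι.appTop s = 1 := by
  subst hpx
  let l : Spec (U.left.presheaf.stalk p) ⟶ pullback U.hom (X.fromSpecStalk (U.hom.base p)) :=
    pullback.lift (U.left.fromSpecStalk p) (Spec.map (U.hom.stalkMap p))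
      (Scheme.SpecMap_stalkMap_fromSpecStalk U.hom).symm
  have h1 : (U.left.fromSpecStalk p).appTop s = 1 := by
    refine (congrArg (fun r : Spec (U.left.presheaf.stalk p) ⟶ U.left => r.appTop s)
      (pullback.lift_fst (U.left.fromSpecStalk p) (Spec.map (U.hom.stalkMap p))
        (Scheme.SpecMap_stalkMap_fromSpecStalk U.hom).symm).symm).trans ?_
    exact (congrArg l.appTop.hom hs).trans (map_one l.appTop.hom)
  rw [Scheme.fromSpecStalk_appTop] at h1
  have h2 : U.left.presheaf.germ ⊤ p trivial s = U.left.presheaf.germ ⊤ p trivial 1 := by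
    rw [map_one]
    have h3 := congrArg (Scheme.ΓSpecIso (U.left.presheaf.stalk p)).hom h1
    rw [map_one, CommRingCat.comp_apply, CommRingCat.comp_apply] at h3
    refine Eq.trans ?_ h3
    simp
  obtain ⟨W₁, hpW, i₁, i₂, e⟩ := U.left.presheaf.germ_eq p (U := ⊤) (V := ⊤) trivial trivial _ _ h2
  let W : U.left.Opens := W₁
  refine ⟨W, hpW, ?_⟩
  rw [map_one] at e
  have hle : (⊤ : W.toScheme.Opens) ≤ W.ι ⁻¹ᵁ W := fun z _ => z.2
  calc W.ι.appTop s = W.ι.appLE ⊤ ⊤ le_top s := by simp [Scheme.Hom.appLE, Scheme.Hom.appTop]; rfl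
    _ = W.ι.appLE W ⊤ hle (U.left.presheaf.map i₁.op s) :=
      (congrArg (fun r => r s) (Scheme.Hom.map_appLE W.ι hle i₁.op)).symm
    _ = 1 := by rw [e, map_one]

/-- units near the only point of the fibre -/
theorem exists_unit_near {T U : Scheme.{u}} (f : T ⟶ U) [IsPreimmersion f] (q : T) (t : (Γ(T, ⊤))ˣ) :
    ∃ W : U.Opens, f.base q ∈ W ∧ ∃ s : (Γ(W.toScheme, ⊤))ˣ,
      ∀ {T' : Scheme.{u}} (h : T' ⟶ T) (f' : T' ⟶ W.toScheme), f' ≫ W.ι = h ≫ f → (∀ z, h.base z = q) →
        f'.appTop s.1 = h.appTop t.1 := by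
  obtain ⟨a, ha⟩ := f.stalkMap_surjective q (T.presheaf.germ ⊤ q trivial t.1)
  have hu : IsUnit a := (isUnit_map_iff (f.stalkMap q).hom a).1 (ha ▸ t.isUnit.map (T.presheaf.germ ⊤ q trivial).hom)
  obtain ⟨W₀, hq, s₀, rfl⟩ := U.presheaf.exists_germ_eq a
  rw [Scheme.Hom.germ_stalkMap_apply] at ha
  obtain ⟨N, hqN, i₁, i₂, e⟩ := T.presheaf.germ_eq q (V := ⊤) hq trivial _ _ ha
  let W : U.Opens := U.basicOpen s₀
  have hqW : f.base q ∈ W := (U.mem_basicOpen s₀ _ hq).2 hu
  have hle : W ≤ W₀ := U.basicOpen_le s₀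
  have hWW : (⊤ : W.toScheme.Opens) ≤ W.ι ⁻¹ᵁ W := fun z _ => z.2
  have hWW₀ : (⊤ : W.toScheme.Opens) ≤ W.ι ⁻¹ᵁ W₀ := fun z _ => hle z.2
  have hs : IsUnit (W.ι.appLE W₀ ⊤ hWW₀ s₀) := by
    rw [← Scheme.Hom.map_appLE W.ι hWW (homOfLE hle).op]
    exact (U.toRingedSpace.isUnit_res_basicOpen s₀).map (W.ι.appLE W ⊤ hWW).hom
  refine ⟨W, hqW, hs.unit, fun {T'} h f' hw hq' => ?_⟩
  have hN : (⊤ : T'.Opens) ≤ h ⁻¹ᵁ N := fun z _ => show h.base z ∈ N from (hq' z).symm ▸ hqN
  have hW : (⊤ : T'.Opens) ≤ (h ≫ f) ⁻¹ᵁ W₀ := fun z _ => show (h ≫ f).base z ∈ W₀ by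
    rw [Scheme.Hom.comp_apply, hq' z]
    exact hq
  calc f'.appTop (W.ι.appLE W₀ ⊤ hWW₀ s₀)
      = (f' ≫ W.ι).appLE W₀ ⊤ (hw.symm ▸ hW) s₀ := by
        rw [← Scheme.Hom.appLE_comp_appLE f' W.ι W₀ ⊤ ⊤ hWW₀ le_top]
        simp [Scheme.Hom.appLE, Scheme.Hom.appTop]
    _ = (h ≫ f).appLE W₀ ⊤ hW s₀ := by simp only [hw]
    _ = h.appLE N ⊤ hN (T.presheaf.map i₁.op (f.app W₀ s₀)) := by
        rw [Scheme.Hom.comp_appLE, CommRingCat.comp_apply]
        exact (congrArg (fun r => r (f.app W₀ s₀)) (Scheme.Hom.map_appLE h hN i₁.op)).symm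
    _ = h.appLE N ⊤ hN (T.presheaf.map i₂.op t.1) := by rw [e]
    _ = h.appTop t.1 := by
        rw [← CommRingCat.comp_apply, Scheme.Hom.map_appLE]
        simp [Scheme.Hom.appLE, Scheme.Hom.appTop]

end Groth.Agent.CdGm
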