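import Groth.Agent.CdGm.Inject
import Groth.Agent.CdDim.DimOne
import Groth.Agent.S3246

/-! no torsion in the higher cohomology of the multiplicative group -/

universe u

open CategoryTheory CategoryTheory.Limits AlgebraicGeometry Opposite

namespace Groth.Agent.CdGm

set_option autoImplicit false
set_option maxHeartbeats 1000000
set_option synthInstance.maxHeartbeats 400000
set_option backward.isDefEq.respectTransparency false
set_option backward.isDefEq.respectTransparency.types false
set_option linter.style.haveILetI false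

variable {X : Scheme.{u}} {ℓ : ℕ}

theorem cdLEAt_stalk_of_maxPts (hℓ : ℓ.Prime) {x : X} (hx : x ∈ maxPts X) {d : ℕ}
    (h : Dix.CohDimLEAt (Spec (X.residueField x)) ℓ d) : Dix.CohDimLEAt (Spec (X.presheaf.stalk x)) ℓ d := by
  intro F hF q hq
  haveI : Subsingleton (Spec (X.presheaf.stalk x)) := ⟨fun s t =>
    (X.fromSpecStalk x).isEmbedding.injective
      ((range_fromSpecStalk_of_maxPts hx s).trans (range_fromSpecStalk_of_maxPts hx t).symm)⟩
  let i : Spec (X.residueField x) ⟶ Spec (X.presheaf.stalk x) := Spec.map (X.residue x)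
  haveI : IsClosedImmersion i := IsClosedImmersion.spec_of_surjective _ (X.residue_surjective x)
  haveI : Surjective i := ⟨fun y => ⟨(default : Spec (X.residueField x)), Subsingleton.elim _ _⟩⟩
  haveI : UniversallyInjective i := inferInstance
  haveI := EtContLib.pfl i
  haveI := h _ (CdDim.primary_pull hℓ i F hF) q hq
  exact (Groth.Agent.S0642.result i F q).1.subsingleton

theorem invertibleOn_of_hom {T : Scheme.{u}} (f : T ⟶ X) {n : ℕ} (h : Dix.InvertibleOn X n) :
    Dix.InvertibleOn T n := fun z hz => h (f.base z) ((f.residueFieldMap z).hom.injective (by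
  rw [map_natCast, map_zero]
  exact hz))

/-- no torsion prime to the residue characteristics -/
theorem H_Gm_torsion_eq_zero [IsNoetherian X] (hℓ : ℓ.Prime) (hdim : topologicalKrullDim X ≤ 1)
    (hinv : Dix.InvertibleOn X ℓ)
    (hcd : ∀ x : X, closure {x} ∈ irreducibleComponents (X : Type u) → Dix.CohDimLEAt (Spec (X.residueField x)) ℓ 1)
    (hcl : ∀ x : X, IsClosed ({x} : Set X) → IsSepClosed (X.residueField x))
    (i : ℕ) (hi : 2 ≤ i) (ξ : EtCoh.H X (EtCoh.Gm X) i) (hξ : ∃ k : ℕ, ℓ ^ k • ξ = 0) : ξ = 0 := by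
  rcases eq_or_lt_of_le hi with rfl | hi
  · haveI : ∀ x : X, PreservesFiniteLimits (EtCoh.pull (X.fromSpecStalk x)) := fun x => EtContLib.pfl _
    refine H2_Gm_eq_zero_of_maxPts hdim (fun x hx _ => hcl x hx) ξ fun x hx => ?_
    have hc : closure {x} ∈ irreducibleComponents (X : Type u) := by
      rw [maxPts_eq_genericPoints] at hx
      exact hx
    refine (Groth.Agent.S3246.result _ ℓ hℓ 1 (cdLEAt_stalk_of_maxPts hℓ hx (hcd x hc))).2
      (invertibleOn_of_hom (X.fromSpecStalk x) hinv) 2 one_lt_two _ ?_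
    obtain ⟨k, hk⟩ := hξ
    exact ⟨k, by rw [← map_nsmul, hk, map_zero]⟩
  · exact (Groth.Agent.S3246.result X ℓ hℓ 2 (CdDim.cdLEAt_two_of_dim_one hℓ hdim hcd hcl)).2 hinv i hi ξ hξ

end Groth.Agent.CdGm
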