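import Groth.Agent.CdGm.Local
import Groth.Agent.GmSeq.Seq

/-! the multiplicative group compared with the local rings at the maximal points -/

universe u

open CategoryTheory CategoryTheory.Limits AlgebraicGeometry Opposite TopologicalSpace

namespace Groth.Agent.CdGm

set_option autoImplicit false
set_option maxHeartbeats 1000000
set_option synthInstance.maxHeartbeats 400000
set_option backward.isDefEq.respectTransparency false
set_option backward.isDefEq.respectTransparency.types false
set_option linter.style.haveILetI false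

variable (X : Scheme.{u}) [IsNoetherian X]

instance : Finite ↥(maxPts X) := (finite_maxPts (X := X)).to_subtype

/-- the direct images of the multiplicative groups of the local rings at the maximal points -/
noncomputable abbrev comp' (x : ↥(maxPts X)) : EtCoh.Ab X :=
  (EtCoh.push (X.fromSpecStalk x.1)).obj (EtCoh.Gm (Spec (X.presheaf.stalk x.1)))

noncomputable abbrev sumGm : EtCoh.Ab X := ⨁ (comp' X)

/-- restriction to the maximal points -/
noncomputable def toMax : EtCoh.Gm X ⟶ sumGm X :=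
  biproduct.lift fun x => EtLim.GmPush (X.fromSpecStalk x.1)

variable {X}

theorem toMax_π (x : ↥(maxPts X)) :
    toMax X ≫ biproduct.π (comp' X) x = EtLim.GmPush (X.fromSpecStalk x.1) :=
  biproduct.lift_π _ _

omit [AlgebraicGeometry.IsNoetherian X] in
theorem app_of_comp_eq {A B C : EtCoh.Ab X} {f : A ⟶ B} {g : B ⟶ C} {h : A ⟶ C} (e : f ≫ g = h) (V : X.Etale)
    (s : A.obj.obj (op V)) : g.hom.app (op V) (f.hom.app (op V) s) = h.hom.app (op V) s := by
  subst e
  rfl

omit [AlgebraicGeometry.IsNoetherian X] in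
/-- evaluation of a sum of morphisms -/
theorem sum_app {A B : EtCoh.Ab X} {ι : Type*} (T : Finset ι) (φ : ι → (A ⟶ B)) (V : X.Etale)
    (c : A.obj.obj (op V)) : (∑ i ∈ T, φ i).hom.app (op V) c = ∑ i ∈ T, (φ i).hom.app (op V) c :=
  map_sum (AddMonoidHom.mk' (fun f : A ⟶ B => f.hom.app (op V) c) fun _ _ => rfl) φ T

theorem π_toMax (x : ↥(maxPts X)) (V : X.Etale) (s : (EtCoh.Gm X).obj.obj (op V)) :
    (biproduct.π (comp' X) x).hom.app (op V) ((toMax X).hom.app (op V) s) =
      (EtLim.GmPush (X.fromSpecStalk x.1)).hom.app (op V) s :=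
  app_of_comp_eq (toMax_π x) V s

omit [AlgebraicGeometry.IsNoetherian X] in
theorem push_section_eq {u' : X} (V : X.Etale) (a b : ((EtCoh.push (X.fromSpecStalk u')).obj
    (EtCoh.Gm (Spec (X.presheaf.stalk u')))).obj.obj (op V)) (h : IsEmpty ((EtCoh.bc (X.fromSpecStalk u')).obj V).left) :
    a = b := by
  refine ULift.ext _ _ (Additive.toMul.injective (Units.ext ?_))
  exact TopCat.Presheaf.section_ext ((EtCoh.bc (X.fromSpecStalk u')).obj V).left.sheaf ⊤ _ _ fun z _ => h.elim z

theorem sum_ext (V : X.Etale) (a b : (sumGm X).obj.obj (op V))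
    (h : ∀ x, (biproduct.π (comp' X) x).hom.app (op V) a = (biproduct.π (comp' X) x).hom.app (op V) b) : a = b := by
  classical
  letI := Fintype.ofFinite ↥(maxPts X)
  have key : ∀ c : (sumGm X).obj.obj (op V), c = ∑ x : ↥(maxPts X), (biproduct.ι (comp' X) x).hom.app (op V)
      ((biproduct.π (comp' X) x).hom.app (op V) c) := fun c => by
    have h0 : (∑ x : ↥(maxPts X), biproduct.π (comp' X) x ≫ biproduct.ι (comp' X) x) = 𝟙 (sumGm X) :=
      IsBilimit.total (biproduct.isBilimit (comp' X))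
    have h1 := congrArg (fun q : sumGm X ⟶ sumGm X => q.hom.app (op V) c) h0
    exact h1.symm.trans (sum_app Finset.univ (fun x => biproduct.π (comp' X) x ≫ biproduct.ι (comp' X) x) V c)
  rw [key a, key b]
  exact Finset.sum_congr rfl fun x _ => congrArg _ (h x)

/-- near a point over a maximal point every section of the sum comes from a unit -/
theorem toMax_locally_surjective (V : X.Etale) (b : (sumGm X).obj.obj (op V)) (p : V.left)
    (hp : V.hom.base p ∈ maxPts X) :
    ∃ (V' : X.Etale) (g : V' ⟶ V) (v : V'.left) (s : (EtCoh.Gm X).obj.obj (op V')),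
      (toMax X).hom.app (op V') s = (sumGm X).obj.map g.op b ∧ g.left.base v = p := by
  obtain ⟨A, hpA, hA⟩ := exists_nhd V p hp
  let x₀ : ↥(maxPts X) := ⟨_, hp⟩
  let T₀ := ((EtCoh.bc (X.fromSpecStalk x₀.1)).obj V).left
  obtain ⟨q, hq, -⟩ := Scheme.Pullback.exists_preimage_pullback (f := V.hom) (g := X.fromSpecStalk x₀.1) p
    (IsLocalRing.closedPoint _) Scheme.fromSpecStalk_closedPoint.symm
  haveI : IsPreimmersion (X.fromSpecStalk x₀.1) := inferInstance
  haveI : IsPreimmersion (pullback.fst V.hom (X.fromSpecStalk x₀.1)) :=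
    MorphismProperty.pullback_fst (P := @IsPreimmersion) V.hom (X.fromSpecStalk x₀.1) ‹IsPreimmersion (X.fromSpecStalk x₀.1)›
  obtain ⟨W₀, hpW, s₀, hs₀⟩ := exists_unit_near (pullback.fst V.hom (X.fromSpecStalk x₀.1)) q
    (Additive.toMul (ULift.down ((biproduct.π (comp' X) x₀).hom.app (op V) b)))
  let W : V.left.Opens := W₀ ⊓ A
  let V' := EtTorLib.openObj V W
  let g := EtTorLib.openHom V W
  let jW : W.toScheme ⟶ W₀.toScheme := V.left.homOfLE inf_le_left
  let s : (EtCoh.Gm X).obj.obj (op V') :=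
    ULift.up (Additive.ofMul (Units.map (RingHom.toMonoidHom jW.appTop.hom) s₀))
  refine ⟨V', g, ⟨p, ⟨hq ▸ hpW, hpA⟩⟩, s, ?_, rfl⟩
  refine sum_ext V' _ _ fun x => ?_
  refine (π_toMax x V' s).trans (Eq.trans ?_ (NatTrans.naturality_apply (biproduct.π (comp' X) x).hom g.op b).symm)
  have hfib : ∀ z : ((EtCoh.bc (X.fromSpecStalk x.1)).obj V').left,
      W.ι.base ((pullback.fst V'.hom (X.fromSpecStalk x.1)).base z) = p ∧ x = x₀ := fun z => by
    let w : W.toScheme := (pullback.fst V'.hom (X.fromSpecStalk x.1)).base z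
    have hx : V.hom.base (W.ι.base w) = x.1 := by
      refine Eq.trans ?_ (range_fromSpecStalk_of_maxPts x.2 ((pullback.snd V'.hom (X.fromSpecStalk x.1)).base z))
      exact (Scheme.Hom.comp_apply W.ι V.hom w).symm.trans ((Scheme.Hom.comp_apply _ V'.hom z).symm.trans
        ((congrArg (fun r : pullback V'.hom (X.fromSpecStalk x.1) ⟶ X => r.base z) pullback.condition).trans
          (Scheme.Hom.comp_apply _ _ z)))
    have hw : W.ι.base w = p := hA _ w.2.2 (hx.symm ▸ x.2)
    exact ⟨hw, Subtype.ext (hx.symm.trans (congrArg V.hom.base hw))⟩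
  by_cases hx : x = x₀
  · subst hx
    refine ULift.ext _ _ (Additive.toMul.injective (Units.ext ?_))
    let bg : ((EtCoh.bc (X.fromSpecStalk x₀.1)).obj V').left ⟶ T₀ := ((EtCoh.bc (X.fromSpecStalk x₀.1)).map g).left
    have hw : pullback.fst V'.hom (X.fromSpecStalk x₀.1) ≫ g.left = bg ≫ pullback.fst V.hom (X.fromSpecStalk x₀.1) :=
      ((EtCoh.isPullback_bc_map (X.fromSpecStalk x₀.1) g).w).symm
    have hcomp : (pullback.fst V'.hom (X.fromSpecStalk x₀.1) ≫ jW) ≫ W₀.ι =
        bg ≫ pullback.fst V.hom (X.fromSpecStalk x₀.1) := by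
      rw [← hw, Category.assoc]
      exact congrArg (pullback.fst V'.hom (X.fromSpecStalk x₀.1) ≫ ·) (V.left.homOfLE_ι inf_le_left)
    refine Eq.trans ?_ (hs₀ bg _ hcomp fun z => ?_)
    · exact (congrArg (fun r => r.hom s₀.1) (Scheme.Hom.comp_appTop (pullback.fst V'.hom (X.fromSpecStalk x₀.1)) jW)).symm
    · apply (pullback.fst V.hom (X.fromSpecStalk x₀.1)).isEmbedding.injective
      rw [hq, ← Scheme.Hom.comp_apply, ← hw, Scheme.Hom.comp_apply]
      exact (hfib z).1
  · exact push_section_eq V' _ _ ⟨fun z => hx (hfib z).2⟩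

/-- near a point over a maximal point a unit killed by the restriction is trivial -/
theorem toMax_locally_injective (V : X.Etale) (s : (EtCoh.Gm X).obj.obj (op V)) (p : V.left)
    (hp : V.hom.base p ∈ maxPts X) (hs : (toMax X).hom.app (op V) s = 0) :
    ∃ (V' : X.Etale) (g : V' ⟶ V) (v : V'.left), (EtCoh.Gm X).obj.map g.op s = 0 ∧ g.left.base v = p := by
  let x₀ : ↥(maxPts X) := ⟨_, hp⟩
  have h1 : (EtLim.GmPush (X.fromSpecStalk x₀.1)).hom.app (op V) s = 0 :=
    (π_toMax x₀ V s).symm.trans ((congrArg _ hs).trans (map_zero ((biproduct.π (comp' X) x₀).hom.app (op V)).hom))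
  have h2 : (pullback.fst V.hom (X.fromSpecStalk x₀.1)).appTop (Additive.toMul (ULift.down s)).1 = 1 :=
    congrArg (fun q => ((Additive.toMul (ULift.down q)) : (Γ(((EtCoh.bc (X.fromSpecStalk x₀.1)).obj V).left, ⊤))ˣ).1) h1
  obtain ⟨W, hpW, hW⟩ := eq_one_near p x₀.1 rfl _ h2
  exact ⟨EtTorLib.openObj V W, EtTorLib.openHom V W, ⟨p, hpW⟩,
    ULift.ext _ _ (Additive.toMul.injective (Units.ext hW)), rfl⟩

omit [AlgebraicGeometry.IsNoetherian X] in
/-- a criterion for a point to avoid the support -/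
theorem notMem_supp_of_locally (F : EtCoh.Ab X) (x : X)
    (h : ∀ (V : X.Etale) (c : F.obj.obj (op V)) (p : V.left), V.hom.base p = x →
      ∃ (V' : X.Etale) (g : V' ⟶ V) (v : V'.left), F.obj.map g.op c = 0 ∧ g.left.base v = p) :
    x ∉ EtPBC.supp F := by
  rintro ⟨Ω, _, _, ξ, hξ, hz⟩
  refine hz (@AddCommGrpCat.isZero_of_subsingleton _ (subsingleton_of_forall_eq 0 fun a => ?_))
  obtain ⟨U, z, s, rfl⟩ := (Scheme.pointSmallEtale ξ).toPresheafFiber_jointly_surjective a
  rw [EtFound.range_point, Set.singleton_eq_singleton_iff] at hξ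
  obtain ⟨V', g, v, hs, hv⟩ := h U s (EtFound.ptOf z) ((EtFound.hom_ptOf z).trans hξ)
  obtain ⟨z', hz', -⟩ := EtFound.exists_lift_point g z v hv
  rw [← hz']
  refine ((Scheme.pointSmallEtale ξ).toPresheafFiber_w_apply g z' F.obj s).symm.trans ?_
  exact (congrArg ((Scheme.pointSmallEtale ξ).toPresheafFiber V' z' F.obj) hs).trans
    (map_zero ((Scheme.pointSmallEtale ξ).toPresheafFiber V' z' F.obj).hom)

theorem supp_kernel_toMax : EtPBC.supp (kernel (toMax X)) ⊆ (maxPts X)ᶜ := fun x hx hm =>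
  notMem_supp_of_locally _ x (fun V c p hp => by
    have h0 : (toMax X).hom.app (op V) ((kernel.ι (toMax X)).hom.app (op V) c) = 0 :=
      congrArg (fun q : kernel (toMax X) ⟶ sumGm X => q.hom.app (op V) c) (kernel.condition (toMax X))
    obtain ⟨V', g, v, hs, hv⟩ := toMax_locally_injective V _ p (hp ▸ hm) h0
    refine ⟨V', g, v, ?_, hv⟩
    haveI : Mono ((kernel.ι (toMax X)).hom.app (op V')) :=
      haveI : Mono (kernel.ι (toMax X)).hom :=
        inferInstanceAs (Mono ((sheafToPresheaf _ _).map (kernel.ι (toMax X))))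
      inferInstance
    refine (AddCommGrpCat.mono_iff_injective ((kernel.ι (toMax X)).hom.app (op V'))).1 inferInstance ?_
    exact (NatTrans.naturality_apply (kernel.ι (toMax X)).hom g.op c).trans
      (hs.trans (map_zero ((kernel.ι (toMax X)).hom.app (op V')).hom).symm)) hx

theorem supp_cokernel_toMax : EtPBC.supp (cokernel (toMax X)) ⊆ (maxPts X)ᶜ := fun x hx hm =>
  notMem_supp_of_locally _ x (fun V c p hp => by
    haveI : Sheaf.IsLocallySurjective (cokernel.π (toMax X)) := (Sheaf.isLocallySurjective_iff_epi' _ _).2 inferInstance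
    obtain ⟨V₁, g₁, v₁, ⟨b, hb⟩, hv₁⟩ := (EtFound.mem_topology_iff _).1
      (Presheaf.imageSieve_mem X.smallEtaleTopology (cokernel.π (toMax X)).hom c) p
    have hp₁ : V₁.hom.base v₁ ∈ maxPts X := by
      rw [← GmSeq.hom_base g₁, hv₁, hp]
      exact hm
    obtain ⟨V', g, v, s, hs, hv⟩ := toMax_locally_surjective V₁ b v₁ hp₁
    refine ⟨V', g ≫ g₁, v, ?_, ((Scheme.Hom.comp_apply g.left g₁.left v).trans ((congrArg g₁.left.base hv).trans hv₁))⟩
    refine (congrArg (fun r => (AddCommGrpCat.Hom.hom r) c)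
      ((cokernel (toMax X)).obj.map_comp g₁.op g.op)).trans ?_
    refine (congrArg ((cokernel (toMax X)).obj.map g.op) hb.symm).trans ?_
    refine (NatTrans.naturality_apply (cokernel.π (toMax X)).hom g.op b).symm.trans ?_
    refine (congrArg _ hs.symm).trans ?_
    exact congrArg (fun q : EtCoh.Gm X ⟶ cokernel (toMax X) => q.hom.app (op V') s) (cokernel.condition (toMax X))) hx

end Groth.Agent.CdGm
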